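import Cfsg.Agent.Lib.Comp.Suz3.T01

set_option maxRecDepth 100000
set_option Elab.async false

namespace Cfsg.Lib.Comp.Suz3

universe u

theorem T0_fin : finB 6144 T0_n [1,2,3,4,5,6,7,8,9,10] 5346 (runH 6144 T0_n (fun x p => ptInv (nth Net.nil T0_n x) p) iv T0_R [] ([1,2,3,4,5,6,7,8,9].map fun x => [x]) 0 []
  [144,148,152,168,172,176,180,192,200,204,208,212,216,220,224,28,32,36,44,48,52,64,68,72,80,84,88,92,96,108,116,120,124,140,144,148,192,212,216,220,224,192]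
  T0_K0) = true := by decide +kernel

theorem T0_idx : Idx.{u} iv (T0_R ++ []) ([1,2,3,4,5,6,7,8,9].map fun x => [x]) [1,2,3,4,5,6,7,8,9,10] 5346 :=
  Reach.idx T0_n_ok (reach_runH T0_n_ok (fun x p _ => ptInv_gp T0_n_ok x p) T0_n_rel T0_K0_reach _ _) T0_fin (by norm_num)

end Cfsg.Lib.Comp.Suz3
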